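import Mathlib

set_option autoImplicit false
universe u

namespace Groth.CofanSheaf

open CategoryTheory CategoryTheory.Limits Opposite

variable {C : Type u} [SmallCategory C] {J : GrothendieckTopology C} {X : C} {ι : Type u}
  {Y : ι → C} (s : ∀ i, Y i ⟶ X)

/-- Concrete coproduct of representables. -/
@[simps]
def P (Y : ι → C) : Cᵒᵖ ⥤ Type u where
  obj W := Σ i, (W.unop ⟶ Y i)
  map f := ↾fun p => ⟨p.1, f.unop ≫ p.2⟩

def inj (Y : ι → C) (i : ι) : yoneda.obj (Y i) ⟶ P Y where
  app W := ↾fun g => ⟨i, g⟩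

noncomputable def isColimitP (Y : ι → C) :
    IsColimit (Cofan.mk (P Y) (inj Y)) :=
  mkCofanColimit _
    (fun t => { app := fun W => ↾fun p => (t.inj p.1).app W p.2
                naturality := fun W W' f => by
                  ext ⟨i, g⟩
                  exact NatTrans.naturality_apply (t.inj i) f g })
    (fun t i => rfl)
    (fun t m h => by
      ext W ⟨i, g⟩
      exact (congrArg (fun q : yoneda.obj (Y i) ⟶ t.pt => q.app W g) (h i) :))

def desc : P Y ⟶ yoneda.obj X where
  app W := ↾fun p => p.2 ≫ s p.1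
  naturality W W' f := by
    ext p
    exact Category.assoc _ _ _

theorem isColimit_iff_W :
    Nonempty (IsColimit (Cofan.mk ((presheafToSheaf J (Type u)).obj (yoneda.obj X))
      (fun i => (presheafToSheaf J (Type u)).map (yoneda.map (s i))))) ↔
      Presheaf.IsLocallyInjective J (desc s) ∧ Presheaf.IsLocallySurjective J (desc s) := by
  let a := presheafToSheaf J (Type u)
  have h := isColimitCofanMkObjOfIsColimit a _ (inj Y) (isColimitP Y)
  rw [← J.W_iff_isLocallyBijective, J.W_iff]
  rw [h.nonempty_isColimit_iff_isIso_desc]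
  have : h.desc (Cofan.mk (a.obj (yoneda.obj X)) fun i => a.map (yoneda.map (s i))) =
      a.map (desc s) := Cofan.IsColimit.hom_ext h _ _ fun i => by
    refine (h.fac _ ⟨i⟩).trans ?_
    change a.map (yoneda.map (s i)) = a.map (inj Y i) ≫ a.map (desc s)
    rw [← a.map_comp]
    congr 1
  rw [this]

theorem surj_iff : Presheaf.IsLocallySurjective J (desc s) ↔ Sieve.ofArrows Y s ∈ J X := by
  have key : ∀ (W : C) (g : (yoneda.obj X).obj (op W)),
      Presheaf.imageSieve (desc s) g = (Sieve.ofArrows Y s).pullback (show W ⟶ X from g) := by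
    intro W g
    ext V v
    simp only [Presheaf.imageSieve_apply, Sieve.pullback_apply, Sieve.mem_ofArrows_iff]
    exact ⟨fun ⟨⟨i, a⟩, ha⟩ => ⟨i, a, ha.symm⟩, fun ⟨i, a, ha⟩ => ⟨⟨i, a⟩, ha.symm⟩⟩
  constructor
  · intro h
    have := h.imageSieve_mem (U := X) (𝟙 X : (yoneda.obj X).obj (op X))
    rw [key] at this
    simpa using this
  · exact fun h => ⟨fun {W} g => by rw [key]; exact J.pullback_stable _ h⟩

/-- The sieve equalising two parallel maps. -/
def eqSieve {W Z : C} (g h : W ⟶ Z) : Sieve W where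
  arrows V v := v ≫ g = v ≫ h
  downward_closed {V V'} v hv w := by rw [Category.assoc, hv, Category.assoc]

theorem eq_bot_of_ne {W : C} {i j : ι} (g : W ⟶ Y i) (h : W ⟶ Y j) (hne : i ≠ j) :
    Presheaf.equalizerSieve (F := P Y) (X := op W) ⟨i, g⟩ ⟨j, h⟩ = ⊥ := by
  ext V v
  exact ⟨fun h => absurd (congrArg Sigma.fst h) hne, fun h => h.elim⟩

theorem eq_of_same {W : C} (i : ι) (g h : W ⟶ Y i) :
    Presheaf.equalizerSieve (F := P Y) (X := op W) ⟨i, g⟩ ⟨i, h⟩ = eqSieve g h := by
  ext V v
  exact ⟨fun hh => eq_of_heq (Sigma.mk.inj hh).2, fun hh => congrArg (Sigma.mk i) hh⟩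

theorem inj_iff : Presheaf.IsLocallyInjective J (desc s) ↔
    (∀ i (W : C) (g h : W ⟶ Y i), g ≫ s i = h ≫ s i → eqSieve g h ∈ J W) ∧
    ∀ i j (W : C) (g : W ⟶ Y i) (h : W ⟶ Y j), i ≠ j → g ≫ s i = h ≫ s j → (⊥ : Sieve W) ∈ J W := by
  constructor
  · intro hl
    refine ⟨fun i W g h e => ?_, fun i j W g h hne e => ?_⟩
    · have := hl.equalizerSieve_mem (X := op W) (⟨i, g⟩ : (P Y).obj (op W)) ⟨i, h⟩ e
      rwa [eq_of_same] at this
    · have := hl.equalizerSieve_mem (X := op W) (⟨i, g⟩ : (P Y).obj (op W)) ⟨j, h⟩ e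
      rwa [eq_bot_of_ne g h hne] at this
  · rintro ⟨h₁, h₂⟩
    refine ⟨fun {W} p q e => ?_⟩
    obtain ⟨W⟩ := W
    obtain ⟨i, g⟩ := p
    obtain ⟨j, h⟩ := q
    by_cases hne : i = j
    · subst hne
      rw [eq_of_same]
      exact h₁ i W g h e
    · rw [eq_bot_of_ne g h hne]
      exact h₂ i j W g h hne e

variable (J) in
/-- The sheaf of proofs that the empty sieve covers. -/
def Z : Cᵒᵖ ⥤ Type u where
  obj W := ULift.{u} (PLift ((⊥ : Sieve W.unop) ∈ J W.unop))
  map {W V} f := ↾fun h => ⟨⟨by simpa using J.pullback_stable f.unop h.down.down⟩⟩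

variable (J) in
theorem isSheaf_Z : Presieve.IsSheaf J (Z J) := by
  intro W S hS x hx
  refine ⟨⟨⟨J.transitive hS _ fun V f hf => by simpa using (x f hf).down.down⟩⟩,
    fun V f hf => Subsingleton.elim (α := ULift (PLift _)) _ _,
    fun t ht => Subsingleton.elim (α := ULift (PLift _)) _ _⟩

theorem isInitial_iff (Q : Cᵒᵖ ⥤ Type u) :
    Nonempty (IsInitial ((presheafToSheaf J (Type u)).obj Q)) ↔
      ∀ (W : C), Nonempty (Q.obj (op W)) → (⊥ : Sieve W) ∈ J W := by
  constructor
  · rintro ⟨hi⟩ W ⟨q⟩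
    let m := hi.to (⟨Z J, (isSheaf_iff_isSheaf_of_type _ _).2 (isSheaf_Z J)⟩ : Sheaf J (Type u))
    exact (m.hom.app (op W) ((toSheafify J Q).app (op W) q)).down.down
  · intro h
    have key : ∀ (G : Sheaf J (Type u)) (W : C) (hW : (⊥ : Sieve W) ∈ J W),
        ∃! x : G.obj.obj (op W), True := fun G W hW => by
      obtain ⟨t, -, ht⟩ := ((isSheaf_iff_isSheaf_of_type _ _).1 G.property) _ hW
        (fun V f hf => hf.elim) (fun _ _ _ _ _ _ _ h => h.elim)
      exact ⟨t, trivial, fun y _ => ht y fun V f hf => hf.elim⟩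
    let e := fun G : Sheaf J (Type u) => (sheafificationAdjunction J (Type u)).homEquiv Q G
    refine ⟨IsInitial.ofUniqueHom (fun G => (e G).symm
      { app := fun W => ↾fun q => (key G W.unop (h _ ⟨q⟩)).choose
        naturality := fun W V f => by
          ext q
          exact ((key G V.unop (h _ ⟨Q.map f q⟩)).unique trivial trivial) }) fun G m => ?_⟩
    apply (e G).injective
    rw [Equiv.apply_symm_apply]
    ext W q
    exact (key G W.unop (h _ ⟨q⟩)).unique trivial trivial

theorem isIso_diagonal_iff {Y' : C} (t : Y' ⟶ X) :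
    IsIso ((presheafToSheaf J (Type u)).map (pullback.diagonal (yoneda.map t))) ↔
      ∀ (W : C) (g h : W ⟶ Y'), g ≫ t = h ≫ t → eqSieve g h ∈ J W := by
  rw [← J.W_iff, J.W_iff_isLocallyBijective]
  let q := pullback.diagonal (yoneda.map t)
  have hf : ∀ (W : C) (a : (yoneda.obj Y').obj (op W)),
      (pullback.fst (yoneda.map t) (yoneda.map t)).app _ (q.app _ a) = a ∧
      (pullback.snd (yoneda.map t) (yoneda.map t)).app _ (q.app _ a) = a := fun W a =>
    ⟨congrArg (fun z : yoneda.obj Y' ⟶ yoneda.obj Y' => z.app _ a)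
      (pullback.diagonal_fst (yoneda.map t)),
     congrArg (fun z : yoneda.obj Y' ⟶ yoneda.obj Y' => z.app _ a)
      (pullback.diagonal_snd (yoneda.map t))⟩
  constructor
  · rintro ⟨-, hs⟩ W g h e
    let l : yoneda.obj W ⟶ pullback (yoneda.map t) (yoneda.map t) :=
      pullback.lift (yoneda.map g) (yoneda.map h) (by rw [← Functor.map_comp, ← Functor.map_comp, e])
    refine J.superset_covering ?_ (hs.imageSieve_mem (U := W) (l.app _ (𝟙 W)))
    rintro V v ⟨a, ha⟩
    have h1 := congrArg ((pullback.fst (yoneda.map t) (yoneda.map t)).app (op V)) ha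
    have h2 := congrArg ((pullback.snd (yoneda.map t) (yoneda.map t)).app (op V)) ha
    rw [(hf V a).1, NatTrans.naturality_apply] at h1
    rw [(hf V a).2, NatTrans.naturality_apply] at h2
    have e1 : (pullback.fst (yoneda.map t) (yoneda.map t)).app (op W) (l.app _ (𝟙 W)) = g :=
      (congrArg (fun z : yoneda.obj W ⟶ yoneda.obj Y' => z.app (op W) (𝟙 W))
        (pullback.lift_fst _ _ _)).trans (Category.id_comp g)
    have e2 : (pullback.snd (yoneda.map t) (yoneda.map t)).app (op W) (l.app _ (𝟙 W)) = h :=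
      (congrArg (fun z : yoneda.obj W ⟶ yoneda.obj Y' => z.app (op W) (𝟙 W))
        (pullback.lift_snd _ _ _)).trans (Category.id_comp h)
    rw [e1] at h1
    rw [e2] at h2
    exact h1.symm.trans h2
  · intro H
    refine ⟨⟨fun {W} a b e => ?_⟩, ⟨fun {W} z => ?_⟩⟩
    · have : a = b := by
        rw [← (hf W.unop a).1, e]
        exact (hf W.unop b).1
      subst this
      simp
    · let g := (pullback.fst (yoneda.map t) (yoneda.map t)).app _ z
      let h := (pullback.snd (yoneda.map t) (yoneda.map t)).app _ z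
      have e : g ≫ t = h ≫ t := congrArg (fun r : _ ⟶ yoneda.obj X => r.app (op W) z)
        (pullback.condition (f := yoneda.map t) (g := yoneda.map t))
      refine J.superset_covering ?_ (H W g h e)
      intro V v hv
      refine ⟨v ≫ g, ?_⟩
      let l : yoneda.obj V ⟶ yoneda.obj Y' := yonedaEquiv.symm (show (yoneda.obj Y').obj (op V) from v ≫ g)
      have : l ≫ q = yonedaEquiv.symm ((pullback (yoneda.map t) (yoneda.map t)).map v.op z) := by
        apply pullback.hom_ext <;> apply yonedaEquiv.injective <;>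
          rw [yonedaEquiv_comp, yonedaEquiv_comp, Equiv.apply_symm_apply,
            yonedaEquiv_comp, Equiv.apply_symm_apply, NatTrans.naturality_apply]
        · rw [(hf V _).1]; rfl
        · rw [(hf V _).2]; exact hv
      have := congrArg yonedaEquiv this
      rwa [yonedaEquiv_comp, Equiv.apply_symm_apply, Equiv.apply_symm_apply] at this

end Groth.CofanSheaf
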